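import Cfsg.Agent.Lib.H28.CosetCertD

set_option autoImplicit false
set_option maxRecDepth 100000

/-! # Facts of a certified partial coset enumeration (generated) -/

namespace Cfsg.Agent.Lib.H28.HeM.CertW

open Cfsg.Agent.Lib.H17.CosetCert Cfsg.Agent.Lib.H28.CosetCertD

/-- the packed facts -/
def factTree : BT := (.node (.leaf 0x10401500541910641c10781b20741a107019006c18005c1a002c0610180c00301210481710681620581920541100441600641520501820200f103c14106013105c1200581120441520140b102c1110541010500f00401320281000380a204c0e203412203007001c0d00480c10440b20400a00240f201009203c0800280e10000200080510140a103808003407201c0c200003100c0710300600180b200806202c05102805202404002004101c03201802001402101001200c00100800000400) (.leaf 0x206014003c09007c2020701f00781c20801e10741f20641610581a20681d207c1c00701e004c10))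

/-- the fact with a given number -/
noncomputable def F (f : ℕ) : ℕ × ℕ × ℕ :=
  factOf factTree 1 64 24 16777216 10 1024 f

/-- the words of the enumeration -/
def words : WT := (.node (.node (.node (.leaf [2, 2] true) (.leaf [0, 0] true)) (.leaf [1, 1] true)) (.node (.node (.leaf [0, 2, 0, 2] true) (.leaf [0, 1, 0, 1, 0, 1, 0, 1] true)) (.leaf [1, 2, 1, 2, 1, 2] true)))

/-- the relator words -/
def relL : List (List ℕ) := [[0, 0], [1, 1], [2, 2], [0, 1, 0, 1, 0, 1, 0, 1], [0, 2, 0, 2], [1, 2, 1, 2, 1, 2], []]

/-- the subgroup generator words -/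
def subL : List (List ℕ) := []

theorem words_spec : ∀ v ∈ words.toList, (v.2 = true → v.1 ∈ relL) ∧ (v.2 = false → v.1 ∈ subL) := by
  decide +kernel

end Cfsg.Agent.Lib.H28.HeM.CertW
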