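import Cfsg.Agent.Lib.H28.HeM.CertW.Run
import Cfsg.Agent.Lib.H28.HeM.RelStruct

set_option autoImplicit false
set_option maxRecDepth 100000

/-!
# The Coxeter element of `W(B₃)` has order dividing six (helper28)

Involutions `a, b, c` with `(ab)⁴ = (ac)² = (bc)³ = 1` satisfy `(abc)⁶ = 1`.
-/

namespace Cfsg.Agent.Lib.H28.HeM.CertW

open Cfsg.Agent.Lib.H17.CosetCert Cfsg.Agent.Lib.H28.CosetCertD Cfsg.Agent.Lib.H28.HeM.RelStruct
  Cfsg.Agent.Lib.H28.HeM

/-- inverse letter -/
def inv (x : ℕ) : ℕ := x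

/-- the base relators -/
def baseL : List (List ℕ) := [
  [0, 1, 0, 1, 0, 1, 0, 1],
  [0, 2, 0, 2],
  [1, 2, 1, 2, 1, 2]]

theorem relL_sub : ∀ w ∈ relL, w ∈ fullL inv [0, 1, 2] (List.range 3) baseL [] [] := by
  decide +kernel

variable {G : Type*} [Group G]

theorem main (a b c : G) (ha : a * a = 1) (hb : b * b = 1) (hc : c * c = 1)
    (hab : (a * b) ^ 4 = 1) (hac : (a * c) ^ 2 = 1) (hbc : (b * c) ^ 3 = 1) :
    (a * b * c) ^ 6 = 1 := by
  set γ : ℕ → G := fun x => [a, b, c].getD x 1 with hγ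
  have hai : a⁻¹ = a := inv_eq_of_mul_eq_one_left ha
  have hbi : b⁻¹ = b := inv_eq_of_mul_eq_one_left hb
  have hci : c⁻¹ = c := inv_eq_of_mul_eq_one_left hc
  have hinv : ∀ x, γ (inv x) = (γ x)⁻¹ := by
    intro x
    by_cases hx : x < 3
    · interval_cases x <;> simp [hγ, inv, hai, hbi, hci]
    · have h3 : 3 ≤ x := by omega
      simp [hγ, inv, h3]
  have hbase : ∀ w ∈ baseL, (w.map γ).prod = 1 := by
    simp only [pow_succ, pow_zero, one_mul, mul_assoc] at hab hac hbc
    intro w hw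
    simp only [baseL, List.mem_cons, List.not_mem_nil, or_false] at hw
    rcases hw with rfl | rfl | rfl <;>
      simp only [hγ, List.map_cons, List.map_nil, List.prod_cons, List.prod_nil, List.getD_cons_zero,
        List.getD_cons_succ, mul_one]
    · exact hab
    · exact hac
    · exact hbc
  have hfull := rel_of_struct γ inv hinv [0, 1, 2] (List.range 3) baseL [] [] hbase
    (fun β hβ => absurd hβ (by simp)) (fun β hβ => absurd hβ (by simp))
  have hrel : ∀ w ∈ relL, (w.map γ).prod = 1 := fun w hw => hfull w (relL_sub w hw)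
  have hsub : ∀ w ∈ subL, (w.map γ).prod ∈ (⊥ : Subgroup G) := by
    intro w hw
    simp [subL] at hw
  have hOK := CertGlue.wordsOK words relL subL words_spec γ hrel ⊥ hsub
  have m0 := CertGlue.prod_mem_of_fix γ ⊥ pw0 (fix0 _ _ hOK)
  have e0 : (pw0.map γ).prod = (a * b * c) ^ 6 := by
    simp only [pw0, hγ, List.map_cons, List.map_nil, List.prod_cons, List.prod_nil,
      List.getD_cons_zero, List.getD_cons_succ, pow_succ, pow_zero, one_mul, mul_assoc, mul_one]
  rw [e0, Subgroup.mem_bot] at m0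
  exact m0

end Cfsg.Agent.Lib.H28.HeM.CertW
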