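import Cfsg.Agent.Lib.H28.HeM.CertW.StepsA

set_option autoImplicit false
set_option maxRecDepth 100000

/-! # Running the certificate: the path words fix the base point (generated) -/

namespace Cfsg.Agent.Lib.H28.HeM.CertW

open Cfsg.Agent.Lib.H17.CosetCert Cfsg.Agent.Lib.H28.CosetCertD

/-- path word 0 -/
def pw0 : List ℕ := [0, 1, 2, 0, 1, 2, 0, 1, 2, 0, 1, 2, 0, 1, 2, 0, 1, 2]

/-- the facts along path 0 -/
def pc0 : ℕ := 0xf00000e00001d00001f00003400003800004300004600004a00004700003c00003900004c00002400004b000008000003000000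

theorem path_ok0 : (walkD F 3 16777216 77 18 pc0 0 pw0).map (fun r => (r.2.1, r.2.2)) = some (0, []) := by
  decide +kernel

variable {G Q : Type*} [Group G] [MulAction G Q] (γ : ℕ → G) (q0 : Q)

theorem run (hOK : WordsOK γ q0 words) : Inv F 3 γ q0 77 33 := by
  have h0 := inv_zero F 3 γ q0
  have h1 := checkSteps_soundD F 3 16777216 γ q0 words hOK steps0 0 1 33 h0 chk0
  rw [len0] at h1
  exact h1

theorem fix0 (hOK : WordsOK γ q0 words) : act γ pw0 q0 = q0 := by
  obtain ⟨-, c, hc0, hfacts⟩ := run γ q0 hOK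
  have hval : ∀ f < 77, Valid 3 γ c (F f) := fun f hf => (hfacts f hf).2.2
  have hp := path_ok0
  cases hw : walkD F 3 16777216 77 18 pc0 0 pw0 with
  | none => rw [hw] at hp; exact absurd hp (by simp)
  | some r =>
    obtain ⟨code', cur', rem'⟩ := r
    rw [hw] at hp
    simp only [Option.map_some, Option.some.injEq, Prod.mk.injEq] at hp
    obtain ⟨rfl, rfl⟩ := hp
    obtain ⟨u, hu, hc⟩ := walk_soundD F 3 16777216 γ c 77 hval 18 _ _ _ _ _ _ hw
    rw [List.append_nil] at hu
    subst hu
    rw [hc0] at hc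
    exact hc.symm

end Cfsg.Agent.Lib.H28.HeM.CertW
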