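import Cfsg.Agent.Lib.H28.HeM.CertW.Facts

set_option autoImplicit false
set_option maxRecDepth 100000

/-! # Steps of the coset enumeration (generated) -/

namespace Cfsg.Agent.Lib.H28.HeM.CertW

open Cfsg.Agent.Lib.H17.CosetCert Cfsg.Agent.Lib.H28.CosetCertD

/-- steps 0 … -/
def steps0 : List ℕ := [0x0, 0x0, 0x0, 0x0, 0x0, 0x0, 0x0, 0x0, 0x0, 0x0, 0x0, 0x5000000000001000002000001, 0xb00000a000004000001000002000002000002, 0x0, 0x6000000000001000003000003, 0x2000000000001000000000001, 0x500000100000f00000e00000d000004000001000006000004, 0x0, 0x0, 0x9000000000001000005000003, 0x4000000000001000002000005, 0x1000000000001000000000003, 0x3000000000015000014000013000012000007000005000002000004000006, 0x0, 0x8000000000001000004000001, 0x18000017000007000001000002000004000002, 0x0, 0x0, 0x0, 0x11000000000001000007000005, 0x1000000000000100000c000001, 0x1e00001d00001c00000200000100000c000002, 0x0, 0x1600000000000100000e000005, 0x1a00000000000100000a000001, 0x2200002000002100000100000200000a000002, 0x0, 0x0, 0x1b00000000000100000b000003, 0xa000000000001000005000001, 0x1a000009000027000026000025000004000001000010000004, 0x0, 0x0, 0x0, 0x2400000000000100000f000003, 0x17000000000001000008000001,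 0x2000001200002d00002c00002b000004000001000013000004, 0x0, 0x29000000000001000011000005, 0x28000000000001000015000001, 0x3100003000002f000002000001000015000002, 0x0, 0x2a000000000001000012000003, 0x1c00000000000100000c000005, 0xd000000000001000006000003, 0xc00000000000100000b000005, 0x1b000037000036000035000034000033000029000005000002000011000006, 0x0, 0x0, 0x0, 0x0, 0x3a000000000001000019000003, 0x2f000000000001000015000005, 0x25000000000001000010000003, 0x23000000000001000013000005, 0x2b00004000003f00003e00003d00003c000039000005000002000018000006, 0x0, 0x3b00000000000100001a000001, 0x33000000000001000016000003, 0x32000000000001000019000001, 0x4500004400004300004200003a000003000002000019000004, 0x0, 0x4100000000000100001e000005, 0x4200000000000100001c000001, 0x4900004700004800000100000200001c000002, 0x1900000000000100000f000005, 0x2e000000000001000018000001]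

theorem chk0 : checkStepsD F 3 16777216 words steps0 0 1 = some 33 := by
  decide +kernel

theorem len0 : steps0.length = 77 := by
  decide +kernel

end Cfsg.Agent.Lib.H28.HeM.CertW
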